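import Mathlib
import Cfsg.Agent.H954.OutHeis_m3
import Cfsg.Agent.H513.AbLy
import Cfsg.Agent.H582.Ly.Row
import Cfsg.Agent.H51.Rad3.Ly
import Cfsg.Agent.FastGrp
import Cfsg.Agent.Prune
set_option linter.all false
prune_inst 0x7f00000000000000000000000000000000000000000000000000000000000000000000000000000000000000000000000000000000000000000000000000000000000000000000000000000000000000003fffffffffffffffffffffffffffbeffbdffffffff
open scoped Cfsg.Agent.FastGrp

-- part: H511/Cyc/Cong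
section
/-!
# TWOCYC (S3507): congruences for the indices of subgroups, orders of permutations (helper511)

* `index_mod` : if `r` is a prime, `r ^ 2 ∤ |G|` and all normalizers of subgroups of order `r` have order `r c`, then the
  index of a subgroup is divisible by `r` or congruent to a divisor of `c` modulo `r`;
* `orderOf_perm` : `(orderOf σ) ^ 3 ≤ 3 ^ n` for a permutation of `n` points.
-/

set_option autoImplicit false

namespace Cfsg.Agent.H511.Cyc

open Subgroup MulAction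

universe u

/-! ### Congruences -/

theorem index_normalizer {G : Type u} [Group G] [Finite G] {r : ℕ} (hr : r.Prime) (h2 : ¬ r ^ 2 ∣ Nat.card G) {x : G}
    (hx : orderOf x = r) : (normalizer (zpowers x : Set G)).index ≡ 1 [MOD r] := by
  have : Fact r.Prime := ⟨hr⟩
  have hP : IsPGroup r (zpowers x) := IsPGroup.of_card (n := 1) (by rw [Nat.card_zpowers, hx, pow_one])
  have hi : ¬ r ∣ (zpowers x).index := by
    intro h
    apply h2
    rw [← (zpowers x).card_mul_index, Nat.card_zpowers, hx, pow_two]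
    exact Nat.mul_dvd_mul_left r h
  let P : Sylow r G := hP.toSylow hi
  have h1 : Nat.card (Sylow r G) = (normalizer (zpowers x : Set G)).index := P.card_eq_index_normalizer
  rw [← h1]
  exact card_sylow_modEq_one r G

/-- **congruences for indices** -/
theorem index_mod {G : Type u} [Group G] [Finite G] {r c : ℕ} (hr : r.Prime) (hrG : r ∣ Nat.card G)
    (h2 : ¬ r ^ 2 ∣ Nat.card G)
    (hN : ∀ x : G, orderOf x = r → Nat.card (normalizer (zpowers x : Set G)) = r * c) (H : Subgroup G) :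
    r ∣ H.index ∨ ∃ x : H, orderOf x = r ∧ ∃ t, t * Nat.card (normalizer (zpowers x : Set H)) = r * c ∧ t ∣ c ∧
      H.index ≡ t [MOD r] := by
  have : Fact r.Prime := ⟨hr⟩
  rw [← H.card_mul_index] at hrG
  refine or_iff_not_imp_left.2 fun hi => ?_
  have hrH := (hr.dvd_mul.1 hrG).resolve_right hi
  obtain ⟨x, hx⟩ := exists_prime_orderOf_dvd_card' r hrH
  have hxG : orderOf (x : G) = r := by rw [Subgroup.orderOf_coe, hx]
  have h3 : ¬ r ^ 2 ∣ Nat.card H := fun h => h2 (h.trans (card_subgroup_dvd_card H))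
  have h4 := index_normalizer hr h2 hxG
  have h5 := index_normalizer hr h3 hx
  have h6 := (normalizer (zpowers (x : G) : Set G)).card_mul_index
  have h7 := (normalizer (zpowers x : Set H)).card_mul_index
  have h8 := H.card_mul_index
  -- the normalizer in `H`
  have h9 : Nat.card (normalizer (zpowers x : Set H)) ∣ Nat.card (normalizer (zpowers (x : G) : Set G)) := by
    have h10 : (normalizer (zpowers x : Set H)).map H.subtype ≤ normalizer (zpowers (x : G) : Set G) := by
      rintro _ ⟨g, hg, rfl⟩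
      rw [SetLike.mem_coe, mem_normalizer_iff] at hg
      rw [mem_normalizer_iff]
      intro y
      have hmem : ∀ y : H, y ∈ zpowers x ↔ (y : G) ∈ zpowers (x : G) := by
        intro y
        rw [mem_zpowers_iff, mem_zpowers_iff]
        constructor
        · rintro ⟨k, rfl⟩
          exact ⟨k, by simp⟩
        · rintro ⟨k, hk⟩
          exact ⟨k, Subtype.ext (by rw [← hk]; simp)⟩
      have hle : zpowers (x : G) ≤ H := zpowers_le.2 x.2
      constructor
      · intro hy
        exact (hmem _).1 ((hg ⟨y, hle hy⟩).1 ((hmem ⟨y, hle hy⟩).2 hy))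
      · intro hy
        have hyH : y ∈ H := by
          have h11 := H.mul_mem (H.mul_mem (H.inv_mem g.2) (hle hy)) g.2
          have e : (g : G)⁻¹ * (H.subtype g * y * (H.subtype g)⁻¹) * (g : G) = y := by
            simp only [Subgroup.subtype_apply]
            group
          rwa [e] at h11
        exact (hmem ⟨y, hyH⟩).1 ((hg ⟨y, hyH⟩).2 ((hmem _).2 hy))
    rw [← card_map_of_injective (f := H.subtype) H.subtype_injective]
    exact card_dvd_of_le h10
  obtain ⟨t, ht⟩ := h9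
  rw [hN _ hxG] at ht h6
  have hrN : r ∣ Nat.card (normalizer (zpowers x : Set H)) := by
    have h10 := orderOf_dvd_natCard (⟨x, le_normalizer (mem_zpowers x)⟩ : normalizer (zpowers x : Set H))
    rwa [Subgroup.orderOf_mk, hx] at h10
  refine ⟨x, hx, t, by rw [ht, mul_comm], ?_, ?_⟩
  · obtain ⟨s, hs⟩ := hrN
    rw [hs, mul_assoc] at ht
    exact ⟨s, by rw [mul_comm]; exact Nat.eq_of_mul_eq_mul_left hr.pos ht⟩
  · -- `t · i_G = i_H · n`
    have h10 : t * (normalizer (zpowers (x : G) : Set G)).index = (normalizer (zpowers x : Set H)).index * H.index := by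
      apply Nat.eq_of_mul_eq_mul_left (Nat.card_pos (α := normalizer (zpowers x : Set H)))
      calc Nat.card (normalizer (zpowers x : Set H)) * (t * (normalizer (zpowers (x : G) : Set G)).index)
          = (Nat.card (normalizer (zpowers x : Set H)) * t) * (normalizer (zpowers (x : G) : Set G)).index := by ring
        _ = Nat.card G := by rw [← ht, h6]
        _ = Nat.card (normalizer (zpowers x : Set H)) * (normalizer (zpowers x : Set H)).index * H.index := by
            rw [h7, h8]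
        _ = _ := by ring
    have h11 : t * (normalizer (zpowers (x : G) : Set G)).index ≡ t * 1 [MOD r] := Nat.ModEq.mul_left t h4
    have h12 : (normalizer (zpowers x : Set H)).index * H.index ≡ 1 * H.index [MOD r] := Nat.ModEq.mul_right _ h5
    rw [h10, mul_one] at h11
    rw [one_mul] at h12
    exact h12.symm.trans h11

/-! ### Orders of permutations -/

theorem cube_le {a : ℕ} : a ^ 3 ≤ 3 ^ a := by
  induction a with
  | zero => norm_num
  | succ a ih =>
    by_cases h : a < 4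
    · interval_cases a <;> norm_num
    · have h1 : (a + 1) ^ 3 ≤ 3 * a ^ 3 := by
        have h := not_lt.1 h
        nlinarith [mul_le_mul h h (by norm_num) (by omega), mul_le_mul (mul_le_mul h h (by norm_num) (by omega)) h (by norm_num) (by positivity)]
      calc (a + 1) ^ 3 ≤ 3 * a ^ 3 := h1
        _ ≤ 3 * 3 ^ a := Nat.mul_le_mul_left 3 ih
        _ = 3 ^ (a + 1) := by ring

theorem lcm_cube (s : Multiset ℕ) : s.lcm ^ 3 ≤ 3 ^ s.sum := by
  induction s using Multiset.induction_on with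
  | empty => simp
  | cons a s ih =>
    rw [Multiset.lcm_cons, Multiset.sum_cons, pow_add]
    have h1 : lcm a s.lcm ≤ a * s.lcm := by
      rcases Nat.eq_zero_or_pos (a * s.lcm) with h | h
      · rw [h]
        rcases Nat.mul_eq_zero.1 h with h | h <;> rw [h] <;> simp
      · exact Nat.le_of_dvd h (Nat.lcm_dvd_mul a s.lcm)
    calc (lcm a s.lcm) ^ 3 ≤ (a * s.lcm) ^ 3 := Nat.pow_le_pow_left h1 3
      _ = a ^ 3 * s.lcm ^ 3 := mul_pow _ _ _
      _ ≤ 3 ^ a * 3 ^ s.sum := Nat.mul_le_mul cube_le ih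

theorem orderOf_perm {α : Type*} [Fintype α] [DecidableEq α] (σ : Equiv.Perm α) :
    orderOf σ ^ 3 ≤ 3 ^ Fintype.card α := by
  rw [← σ.lcm_cycleType]
  refine (lcm_cube _).trans (Nat.pow_le_pow_right (by norm_num) ?_)
  rw [σ.sum_cycleType]
  exact Finset.card_le_univ _

end Cfsg.Agent.H511.Cyc
end

-- part: H511/Cyc/LyOrd
section
/-!
# TWOCYC (S3507): the orders of the elements of the Lyons group (helper511)

* `orderOf_le` : the elements have order at most 333;
* `norm67`, `norm37`, `norm31` : the normalizers of the subgroups of order 67, 37, 31.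
-/

set_option autoImplicit false
set_option maxRecDepth 100000

namespace Cfsg.Agent.H511.Cyc.Ly

open Subgroup Cfsg
open Cfsg.Agent.H582.Ly
open Cfsg.Agent.H513.NilpTools Cfsg.Agent.H513.CentTools Cfsg.Agent.H513.AbLy

local notation "NL" => 51765179004000000

/-- the data of the Lyons group -/
theorem exists_data : ∃ x₀ : Spor.Ly, Nonempty (Dat Spor.Ly x₀) := H582.Ly.exists_dat ⟨MulEquiv.refl _⟩

/-! ### 5-elements -/

/-- the exponent of the Sylow 5-subgroups is 25 -/
theorem pow_five {y : Spor.Ly} {n : ℕ} (hy : y ^ 5 ^ n = 1) : y ^ 25 = 1 := by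
  obtain ⟨x₀, ⟨D⟩⟩ := exists_data
  have h5 : Fact (Nat.Prime 5) := ⟨Nat.prime_five⟩
  obtain ⟨f, K, S, h⟩ := exists_fv D.L
  have hA : IsPGroup 5 (zpowers y) := by
    obtain ⟨k, -, hk⟩ := (Nat.dvd_prime_pow Nat.prime_five).1 (orderOf_dvd_of_pow_eq_one hy)
    exact IsPGroup.of_card (n := k) (by rw [Nat.card_zpowers, hk])
  obtain ⟨t', f', K', S', h', P, hAP, hKP, hPf, hP⟩ := h.exists_sylow D.card hA
  have h1 := mem_centralizer_singleton_iff.1 (hPf (hAP (mem_zpowers y)))
  obtain ⟨k, hk, s, hs, rfl, hs5⟩ := h'.exists_fac h1 hy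
  obtain ⟨k', hk', he⟩ := h'.h.mem_K_pow hk hs 5
  rw [hs5, mul_one] at he
  rw [show (25 : ℕ) = 5 * 5 by norm_num, pow_mul, he]
  exact h'.pow_five _ hk'

/-- elements of order 5 commute with elements of order 11 ≤ r only for `r = 31` -/
theorem not_adj_five {c x : Spor.Ly} {r : ℕ} (hr : r.Prime) (hr7 : 7 ≤ r) (hr5 : ¬ 5 ∣ r - 1) (hc : orderOf c = 5)
    (hx : orderOf x = r) : c * x ≠ x * c := by
  obtain ⟨x₀, ⟨D⟩⟩ := exists_data
  exact fun h => hr5 (adj_five D.FT D.L D.card hr hr7 hc hx h).1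

/-- 25 does not divide the orders of the centralizers of the elements of prime order at least 7 -/
theorem not_25 {x : Spor.Ly} {r : ℕ} (hr : r.Prime) (hr7 : 7 ≤ r) (hx : orderOf x = r) :
    ¬ 25 ∣ Nat.card (centralizer ({x} : Set Spor.Ly)) := by
  obtain ⟨x₀, ⟨D⟩⟩ := exists_data
  have h5 : Fact (Nat.Prime 5) := ⟨Nat.prime_five⟩
  intro h25
  obtain ⟨R₀, hR₀⟩ := Sylow.exists_subgroup_card_pow_prime (G := centralizer ({x} : Set Spor.Ly)) 5 (n := 2)
    (by rw [show (5 : ℕ) ^ 2 = 25 by norm_num]; exact h25)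
  set R := R₀.map (centralizer ({x} : Set Spor.Ly)).subtype with hR
  have hRc : Nat.card R = 5 ^ 2 := by rw [hR, card_map_of_injective (subtype_injective _), hR₀]
  have hRx : ∀ y ∈ R, y * x = x * y := by
    rintro _ ⟨y, -, rfl⟩
    exact mem_centralizer_singleton_iff.1 y.2
  have hRp : IsPGroup 5 R := IsPGroup.of_card hRc
  have hRcomm : ∀ a ∈ R, ∀ b ∈ R, a * b = b * a := by
    have h1 : IsMulCommutative R := IsPGroup.isMulCommutative_of_card_eq_prime_sq hRc
    intro a ha b hb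
    exact congrArg Subtype.val (h1.is_comm.comm (⟨a, ha⟩ : R) ⟨b, hb⟩)
  obtain ⟨⟨c, hcR⟩, hc⟩ := exists_prime_orderOf_dvd_card' (G := R) 5 (by rw [hRc]; norm_num)
  rw [Subgroup.orderOf_mk] at hc
  obtain ⟨f, K, S, h⟩ := exists_fv D.L
  obtain ⟨t', f', K', S', h', P, hAP, hKP, hPf, hP⟩ := h.exists_sylow D.card hRp
  obtain ⟨-, h125, -⟩ := adj_five D.FT D.L D.card hr hr7 hc hx (hRx c hcR)
  have hfR : ∀ y ∈ R, y * f' = f' * y := fun y hy => mem_centralizer_singleton_iff.1 (hPf (hAP hy))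
  have hfn : f' ∉ R := fun hf => h'.not_adj hr hr7 hx (hRx f' hf)
  apply h125
  -- the group `R × ⟨f'⟩`
  let φ : R × zpowers f' →* centralizer ({c} : Set Spor.Ly) :=
    { toFun := fun a => ⟨a.1 * a.2, mul_mem (mem_centralizer_singleton_iff.2 (hRcomm _ a.1.2 _ hcR)) (by
        obtain ⟨i, hi⟩ := a.2.2
        rw [← hi]
        exact mem_centralizer_singleton_iff.2 ((show Commute f' c from (hfR c hcR).symm).zpow_left i).eq)⟩
      map_one' := Subtype.ext (by simp)
      map_mul' := by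
        rintro ⟨a, b⟩ ⟨a', b'⟩
        apply Subtype.ext
        show (a * a' : Spor.Ly) * (b * b' : Spor.Ly) = (a * b : Spor.Ly) * (a' * b' : Spor.Ly)
        have h6 : (a' : Spor.Ly) * b = b * a' := by
          obtain ⟨i, hi⟩ := b.2
          rw [← hi]
          exact ((show Commute (a' : Spor.Ly) f' from hfR _ a'.2).zpow_right i).eq
        calc (a * a' : Spor.Ly) * (b * b' : Spor.Ly) = a * (a' * b) * b' := by group
          _ = a * (b * a') * b' := by rw [h6]
          _ = (a * b : Spor.Ly) * (a' * b' : Spor.Ly) := by group }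
  have hf : Function.Injective φ := by
    rw [injective_iff_map_eq_one]
    rintro ⟨⟨a, ha⟩, ⟨b, hb⟩⟩ hab
    have h6 : a * b = 1 := congrArg Subtype.val hab
    have h7 : b ∈ R := by
      rw [eq_inv_of_mul_eq_one_right h6]
      exact inv_mem ha
    have h8 : b = 1 := by
      by_contra hb1
      apply hfn
      have h9 : zpowers b = zpowers f' := by
        apply eq_of_le_of_card_ge (zpowers_le.2 hb)
        rw [Nat.card_zpowers, Nat.card_zpowers, h'.h.f5]
        have h10 : orderOf (⟨b, hb⟩ : zpowers f') ∣ 5 := by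
          have h11 := orderOf_dvd_natCard (⟨b, hb⟩ : zpowers f')
          rwa [Nat.card_zpowers, h'.h.f5] at h11
        rw [Subgroup.orderOf_mk] at h10
        rcases (Nat.dvd_prime Nat.prime_five).1 h10 with h11 | h11
        · exact absurd (orderOf_eq_one_iff.1 h11) hb1
        · rw [h11]
      exact (zpowers_le.2 h7) (h9 ▸ mem_zpowers f')
    have h9 : a = 1 := by rw [h8, mul_one] at h6; exact h6
    subst h8 h9
    rfl
  have h10 : Nat.card (R × zpowers f') = Nat.card φ.range := Nat.card_congr (MonoidHom.ofInjective hf).toEquiv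
  have h11 : Nat.card (R × zpowers f') = 125 := by
    rw [Nat.card_prod, hRc, Nat.card_zpowers, h'.h.f5]
    norm_num
  rw [← h11, h10]
  exact card_subgroup_dvd_card _

/-! ### Centralizers -/

theorem not_dvd_of {x : Spor.Ly} {q : ℕ} (hq : q.Prime)
    (h : ∀ y : Spor.Ly, orderOf y = q → y * x ≠ x * y) : ¬ q ∣ Nat.card (centralizer ({x} : Set Spor.Ly)) := by
  have : Fact q.Prime := ⟨hq⟩
  intro hd
  obtain ⟨y, hy⟩ := exists_prime_orderOf_dvd_card' (G := centralizer ({x} : Set Spor.Ly)) q hd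
  exact h y (by rw [Subgroup.orderOf_coe, hy]) (mem_centralizer_singleton_iff.1 y.2)

theorem not_elev {x : Spor.Ly} {r : ℕ} (hr : r.Prime) (hr13 : 13 ≤ r) (hx : orderOf x = r) :
    ¬ 11 ∣ Nat.card (centralizer ({x} : Set Spor.Ly)) := by
  obtain ⟨x₀, ⟨D⟩⟩ := exists_data
  exact not_dvd_of (by norm_num) fun y hy h => eleven D.L D.card D.three hr hr13 hy hx h

theorem c67 {x : Spor.Ly} (hx : orderOf x = 67) : Nat.card (centralizer ({x} : Set Spor.Ly)) ∣ 67 * prodL [(3, 7)] := by
  have h1 := cent_dvd' (Or.inr rfl) hx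
  have h5 : ¬ 5 ∣ Nat.card (centralizer ({x} : Set Spor.Ly)) :=
    not_dvd_of Nat.prime_five fun y hy h => not_adj_five (by norm_num) (by norm_num) (by norm_num) hy hx h
  have h31 : ¬ 31 ∣ Nat.card (centralizer ({x} : Set Spor.Ly)) :=
    not_dvd_of (by norm_num) fun y hy h => not_31_67 hy hx h.symm
  have h37 : ¬ 37 ∣ Nat.card (centralizer ({x} : Set Spor.Ly)) :=
    not_dvd_of (by norm_num) fun y hy h => not_37_67 hy hx h.symm
  rw [show (3 ^ 7 * 5 ^ 3 * 31 * 37 * 67 : ℕ) = 5 ^ 3 * (31 ^ 1 * (37 ^ 1 * (67 * 3 ^ 7))) by norm_num] at h1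
  exact (dvd_drop (by norm_num) h37 (dvd_drop (by norm_num) h31 (dvd_drop Nat.prime_five h5 h1))).trans
    (dvd_of_eq (by norm_num [prodL]))

theorem c37 {x : Spor.Ly} (hx : orderOf x = 37) : Nat.card (centralizer ({x} : Set Spor.Ly)) ∣ 37 * prodL [(3, 7)] := by
  have h1 := cent_dvd' (Or.inl rfl) hx
  have h5 : ¬ 5 ∣ Nat.card (centralizer ({x} : Set Spor.Ly)) :=
    not_dvd_of Nat.prime_five fun y hy h => not_adj_five (by norm_num) (by norm_num) (by norm_num) hy hx h
  have h31 : ¬ 31 ∣ Nat.card (centralizer ({x} : Set Spor.Ly)) :=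
    not_dvd_of (by norm_num) fun y hy h => not_31_37 hy hx h.symm
  have h67 : ¬ 67 ∣ Nat.card (centralizer ({x} : Set Spor.Ly)) :=
    not_dvd_of (by norm_num) fun y hy h => not_37_67 hx hy h
  rw [show (3 ^ 7 * 5 ^ 3 * 31 * 37 * 67 : ℕ) = 5 ^ 3 * (31 ^ 1 * (67 ^ 1 * (37 * 3 ^ 7))) by norm_num] at h1
  exact (dvd_drop (by norm_num) h67 (dvd_drop (by norm_num) h31 (dvd_drop Nat.prime_five h5 h1))).trans
    (dvd_of_eq (by norm_num [prodL]))

theorem c31 {x : Spor.Ly} (hx : orderOf x = 31) :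
    Nat.card (centralizer ({x} : Set Spor.Ly)) ∣ 31 * prodL [(3, 7), (5, 1)] := by
  have h1 := Cfsg.Agent.H513.AbLy.c31 hx
  have h25 := not_25 (by norm_num) (by norm_num) hx
  have h11 := not_elev (by norm_num) (by norm_num) hx
  have h37 : ¬ 37 ∣ Nat.card (centralizer ({x} : Set Spor.Ly)) :=
    not_dvd_of (by norm_num) fun y hy h => not_31_37 hx hy h
  have h67 : ¬ 67 ∣ Nat.card (centralizer ({x} : Set Spor.Ly)) :=
    not_dvd_of (by norm_num) fun y hy h => not_31_67 hx hy h
  rw [show (3 ^ 7 * 5 ^ 3 * 11 * 31 * 37 * 67 : ℕ) = 11 ^ 1 * (37 ^ 1 * (67 ^ 1 * (5 ^ 3 * (31 * 3 ^ 7)))) by norm_num] at h1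
  exact (dvd_cap (k := 1) Nat.prime_five h25 (dvd_drop (by norm_num) h67 (dvd_drop (by norm_num) h37
    (dvd_drop (by norm_num) h11 h1)))).trans (dvd_of_eq (by norm_num [prodL]))

theorem chk67 : chkN 2 NL 67 [(3, 7)] (fun m e => Nat.beq m 1 && Nat.beq e 22) = true := by decide +kernel

theorem chk37 : chkN 2 NL 37 [(3, 7)] (fun m e => Nat.beq (9 % m) 0 && Nat.beq (m * e) 18) = true := by decide +kernel

theorem chk31 : chkN 2 NL 31 [(3, 7), (5, 1)] (fun m e => !(Nat.beq (e % 2) 0) || (Nat.beq (3 % m) 0 && Nat.beq (m * e) 6)) =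
    true := by decide +kernel

theorem dat67 {x : Spor.Ly} (hx : orderOf x = 67) : Nat.card (centralizer ({x} : Set Spor.Ly)) = 67 ∧
    Nat.card (normalizer (zpowers x : Set Spor.Ly)) = 67 * 22 := by
  obtain ⟨m, e, h1, h2, -, h3⟩ := chk_norm (x := x) (by norm_num) hx card (by norm_num) (by norm_num) [(3, 7)]
    (by norm_num) (c67 hx) chk67
  rw [Bool.and_eq_true] at h3
  have e1 : m = 1 := Nat.eq_of_beq_eq_true h3.1
  have e2 : e = 22 := Nat.eq_of_beq_eq_true h3.2
  subst e1 e2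
  exact ⟨h1, h2⟩

theorem dat37 {x : Spor.Ly} (hx : orderOf x = 37) : Nat.card (centralizer ({x} : Set Spor.Ly)) ∣ 333 ∧
    Nat.card (normalizer (zpowers x : Set Spor.Ly)) = 37 * 18 := by
  obtain ⟨m, e, h1, h2, -, h3⟩ := chk_norm (x := x) (by norm_num) hx card (by norm_num) (by norm_num) [(3, 7)]
    (by norm_num) (c37 hx) chk37
  rw [Bool.and_eq_true] at h3
  refine ⟨?_, ?_⟩
  · rw [h1]
    exact Nat.mul_dvd_mul_left 37 (Nat.dvd_of_mod_eq_zero (Nat.eq_of_beq_eq_true h3.1))
  · rw [← Nat.eq_of_beq_eq_true h3.2, ← mul_assoc]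
    exact h2

theorem dat31 {x : Spor.Ly} (hx : orderOf x = 31) : Nat.card (centralizer ({x} : Set Spor.Ly)) ∣ 93 ∧
    Nat.card (normalizer (zpowers x : Set Spor.Ly)) = 31 * 6 := by
  obtain ⟨m, e, h1, h2, -, h3⟩ := chk_norm (x := x) (by norm_num) hx card (by norm_num) (by norm_num) [(3, 7), (5, 1)]
    (by norm_num) (c31 hx) chk31
  have h5 := even_NN hx
  have h6 := not_two hx (by norm_num)
  rw [h1] at h6
  rw [h2] at h5
  have h7 : 2 ∣ e := ((Nat.Prime.dvd_mul Nat.prime_two).1 h5).resolve_left h6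
  rw [Nat.mod_eq_zero_of_dvd h7] at h3
  have h4 : Nat.beq (3 % m) 0 = true ∧ Nat.beq (m * e) 6 = true := by simpa using h3
  refine ⟨?_, ?_⟩
  · rw [h1]
    exact Nat.mul_dvd_mul_left 31 (Nat.dvd_of_mod_eq_zero (Nat.eq_of_beq_eq_true h4.1))
  · rw [← Nat.eq_of_beq_eq_true h4.2, ← mul_assoc]
    exact h2

/-! ### 3-elements -/

/-- the exponent of the Sylow 3-subgroups divides 9 -/
theorem pow_three {y : Spor.Ly} {n : ℕ} (hy : y ^ 3 ^ n = 1) : y ^ 9 = 1 := by
  have : Fact (Nat.Prime 3) := ⟨Nat.prime_three⟩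
  open Cfsg.Agent.H51.Rad3.Ly in
  let P : Sylow 3 Spor.Ly := isPGroup_P.toSylow index_P
  have hxp : IsPGroup 3 ↥(zpowers y) := by
    obtain ⟨k, -, hk⟩ := (Nat.dvd_prime_pow Nat.prime_three).1 (orderOf_dvd_of_pow_eq_one hy)
    exact IsPGroup.of_card (n := k) (by rw [Nat.card_zpowers, hk])
  obtain ⟨P', hP'⟩ := hxp.exists_le_sylow
  obtain ⟨c, hc⟩ := MulAction.exists_smul_eq Spor.Ly P' P
  have h4 : c * y * c⁻¹ ∈ (P : Subgroup Spor.Ly) := by
    rw [← hc, Sylow.coe_subgroup_smul]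
    exact smul_mem_pointwise_smul y (MulAut.conj c) _ (hP' (mem_zpowers y))
  have h5 : c * y * c⁻¹ ∈ Cfsg.Agent.H51.Rad3.Ly.U ⊔ Cfsg.Agent.H51.Rad3.Ly.E := h4
  have h6 : (c * y * c⁻¹) ^ 3 ∈ Cfsg.Agent.H51.Rad3.Ly.E := by
    have h7 : c * y * c⁻¹ ∈ ((Cfsg.Agent.H51.Rad3.Ly.U ⊔ Cfsg.Agent.H51.Rad3.Ly.E : Subgroup Spor.Ly) : Set Spor.Ly) := h5
    rw [Subgroup.coe_mul_of_left_le_normalizer_right _ _ Cfsg.Agent.H51.Rad3.Ly.U_le] at h7
    obtain ⟨a, ha, b, hb, hab⟩ := Set.mem_mul.1 h7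
    have hn : ∀ z ∈ Cfsg.Agent.H51.Rad3.Ly.E, a * z * a⁻¹ ∈ Cfsg.Agent.H51.Rad3.Ly.E := fun z hz =>
      (mem_normalizer_iff.1 (Cfsg.Agent.H51.Rad3.Ly.U_le ha) z).1 hz
    have ha3 : a ^ 3 = 1 := Cfsg.Agent.H51.Rad3.Ly.U_props.1 a ha
    have e1 : (a * b) ^ 3 = (a * b * a⁻¹) * (a * (a * b * a⁻¹) * a⁻¹) * (a ^ 3 * b) := by
      simp only [pow_succ, pow_zero, one_mul]
      group
    rw [← hab, e1, ha3, one_mul]
    exact mul_mem (mul_mem (hn b hb) (hn _ (hn b hb))) hb
  have h7 : (c * y * c⁻¹) ^ 9 = 1 := by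
    rw [show (9 : ℕ) = 3 * 3 by norm_num, pow_mul]
    exact Cfsg.Agent.H51.Rad3.Ly.E_props.1 _ h6
  rw [conj_pow, mul_inv_eq_one] at h7
  exact mul_left_cancel (h7.trans (mul_one c).symm)

end Cfsg.Agent.H511.Cyc.Ly
end
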